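import Mathlib

/-!
# Normalisers of joins, meets, commutators, centralisers, images
-/

set_option autoImplicit false

open Subgroup
open scoped Pointwise commutatorElement

namespace Cfsg.Agent.H990.Norm

variable {G : Type*} [Group G]

theorem mem_cj {g x : G} {A : Subgroup G} : x ∈ MulAut.conj g • A ↔ g⁻¹ * x * g ∈ A := by
  rw [mem_pointwise_smul_iff_inv_smul_mem, ← map_inv, MulAut.smul_def, MulAut.conj_apply, inv_inv]

theorem conj_mem_cj {g x : G} {A : Subgroup G} (hx : x ∈ A) : g * x * g⁻¹ ∈ MulAut.conj g • A := by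
  rw [mem_cj]
  simpa [mul_assoc] using hx

theorem cj_cj (g h : G) (A : Subgroup G) : MulAut.conj g • MulAut.conj h • A = MulAut.conj (g * h) • A := by
  rw [smul_smul, ← map_mul]

theorem cj_one (A : Subgroup G) : MulAut.conj (1 : G) • A = A := by
  rw [map_one, one_smul]

theorem cj_inv_cj (g : G) (A : Subgroup G) : MulAut.conj g⁻¹ • MulAut.conj g • A = A := by
  rw [cj_cj, inv_mul_cancel, cj_one]

theorem cj_cj_inv (g : G) (A : Subgroup G) : MulAut.conj g • MulAut.conj g⁻¹ • A = A := by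
  rw [cj_cj, mul_inv_cancel, cj_one]

theorem cj_mono {g : G} {A B : Subgroup G} (h : A ≤ B) : MulAut.conj g • A ≤ MulAut.conj g • B :=
  pointwise_smul_le_pointwise_smul_iff.2 h

theorem cj_le_cj {g : G} {A B : Subgroup G} : MulAut.conj g • A ≤ MulAut.conj g • B ↔ A ≤ B :=
  pointwise_smul_le_pointwise_smul_iff

theorem cj_le_iff {g : G} {A B : Subgroup G} : MulAut.conj g • A ≤ B ↔ A ≤ MulAut.conj g⁻¹ • B := by
  rw [pointwise_smul_subset_iff, map_inv]

theorem cj_inj {g : G} {A B : Subgroup G} (h : MulAut.conj g • A = MulAut.conj g • B) : A = B := by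
  have := congrArg (fun X => MulAut.conj g⁻¹ • X) h
  simpa [cj_cj] using this

theorem cj_eq_map (g : G) (A : Subgroup G) : MulAut.conj g • A = A.map (MulAut.conj g).toMonoidHom := rfl

theorem cj_top (g : G) : MulAut.conj g • (⊤ : Subgroup G) = ⊤ := by
  rw [eq_top_iff]
  intro x _
  rw [mem_cj]
  trivial

theorem cj_bot (g : G) : MulAut.conj g • (⊥ : Subgroup G) = ⊥ := Subgroup.map_bot _

theorem cj_sup (g : G) (A B : Subgroup G) : MulAut.conj g • (A ⊔ B) = MulAut.conj g • A ⊔ MulAut.conj g • B :=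
  Subgroup.smul_sup _ _ _

theorem cj_inf (g : G) (A B : Subgroup G) : MulAut.conj g • (A ⊓ B) = MulAut.conj g • A ⊓ MulAut.conj g • B := by
  ext x; simp only [mem_cj, mem_inf]

theorem cj_commutator (g : G) (A B : Subgroup G) : MulAut.conj g • ⁅A, B⁆ = ⁅MulAut.conj g • A, MulAut.conj g • B⁆ :=
  Subgroup.map_commutator _ _ _

theorem mem_normalizer_iff_cj {g : G} {A : Subgroup G} : g ∈ normalizer (A : Set G) ↔ MulAut.conj g • A = A := by
  rw [mem_normalizer_iff]
  constructor
  · intro h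
    ext x
    rw [mem_cj]
    have := h (g⁻¹ * x * g)
    rw [this]
    have e : g * (g⁻¹ * x * g) * g⁻¹ = x := by group
    rw [e]
  · intro h x
    constructor
    · intro hx
      rw [← h]
      exact conj_mem_cj hx
    · intro hx
      rw [← h, mem_cj] at hx
      have e : g⁻¹ * (g * x * g⁻¹) * g = x := by group
      rwa [e] at hx

theorem mem_normalizer_of_cj_le {g : G} {A : Subgroup G} [Finite G] (h : MulAut.conj g • A ≤ A) :
    g ∈ normalizer (A : Set G) := by
  rw [mem_normalizer_iff_cj]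
  apply Subgroup.eq_of_le_of_card_ge h
  exact le_of_eq (Nat.card_congr (Subgroup.equivSMul (MulAut.conj g) A).toEquiv)

theorem cj_of_mem {g : G} {A : Subgroup G} (hg : g ∈ A) : MulAut.conj g • A = A :=
  mem_normalizer_iff_cj.1 (le_normalizer hg)

theorem cj_of_normal {g : G} {A : Subgroup G} (hA : A.Normal) : MulAut.conj g • A = A :=
  mem_normalizer_iff_cj.1 (by rw [normalizer_eq_top_iff.2 hA]; trivial)

theorem le_normalizer_of_normal {A : Subgroup G} (hA : A.Normal) (X : Subgroup G) : X ≤ normalizer (A : Set G) := by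
  rw [normalizer_eq_top_iff.2 hA]; exact le_top

theorem normal_of_forall_cj {A : Subgroup G} (h : ∀ g : G, MulAut.conj g • A = A) : A.Normal := by
  rw [← normalizer_eq_top_iff, eq_top_iff]
  exact fun g _ => mem_normalizer_iff_cj.2 (h g)

theorem mem_normalizer_sup {g : G} {A B : Subgroup G} (hA : g ∈ normalizer (A : Set G))
    (hB : g ∈ normalizer (B : Set G)) : g ∈ normalizer ((A ⊔ B : Subgroup G) : Set G) := by
  rw [mem_normalizer_iff_cj] at *
  rw [cj_sup, hA, hB]

theorem mem_normalizer_inf {g : G} {A B : Subgroup G} (hA : g ∈ normalizer (A : Set G))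
    (hB : g ∈ normalizer (B : Set G)) : g ∈ normalizer ((A ⊓ B : Subgroup G) : Set G) := by
  rw [mem_normalizer_iff_cj] at *
  rw [cj_inf, hA, hB]

theorem mem_normalizer_commutator {g : G} {A B : Subgroup G} (hA : g ∈ normalizer (A : Set G))
    (hB : g ∈ normalizer (B : Set G)) : g ∈ normalizer ((⁅A, B⁆ : Subgroup G) : Set G) := by
  rw [mem_normalizer_iff_cj] at *
  rw [cj_commutator, hA, hB]

theorem cj_centralizer (g : G) (A : Subgroup G) :
    MulAut.conj g • centralizer (A : Set G) = centralizer ((MulAut.conj g • A : Subgroup G) : Set G) := by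
  ext x
  rw [mem_cj, mem_centralizer_iff, mem_centralizer_iff]
  constructor
  · intro h y hy
    have h1 := h _ (mem_cj.1 hy)
    have h2 : g * (g⁻¹ * y * g * (g⁻¹ * x * g)) * g⁻¹ = g * (g⁻¹ * x * g * (g⁻¹ * y * g)) * g⁻¹ := by rw [h1]
    simpa [mul_assoc] using h2
  · intro h y hy
    have h1 := h _ (conj_mem_cj (g := g) hy)
    have h2 : g⁻¹ * (g * y * g⁻¹ * x) * g = g⁻¹ * (x * (g * y * g⁻¹)) * g := by rw [h1]
    simpa [mul_assoc] using h2

theorem mem_normalizer_centralizer {g : G} {A : Subgroup G} (hA : g ∈ normalizer (A : Set G)) :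
    g ∈ normalizer (centralizer (A : Set G) : Set G) := by
  rw [mem_normalizer_iff_cj] at *
  rw [cj_centralizer, hA]

theorem le_normalizer_sup {X A B : Subgroup G} (hA : X ≤ normalizer (A : Set G)) (hB : X ≤ normalizer (B : Set G)) :
    X ≤ normalizer ((A ⊔ B : Subgroup G) : Set G) := fun _ hx => mem_normalizer_sup (hA hx) (hB hx)

theorem le_normalizer_inf {X A B : Subgroup G} (hA : X ≤ normalizer (A : Set G)) (hB : X ≤ normalizer (B : Set G)) :
    X ≤ normalizer ((A ⊓ B : Subgroup G) : Set G) := fun _ hx => mem_normalizer_inf (hA hx) (hB hx)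

theorem le_normalizer_commutator {X A B : Subgroup G} (hA : X ≤ normalizer (A : Set G))
    (hB : X ≤ normalizer (B : Set G)) : X ≤ normalizer ((⁅A, B⁆ : Subgroup G) : Set G) :=
  fun _ hx => mem_normalizer_commutator (hA hx) (hB hx)

theorem le_normalizer_centralizer {X A : Subgroup G} (hA : X ≤ normalizer (A : Set G)) :
    X ≤ normalizer (centralizer (A : Set G) : Set G) := fun _ hx => mem_normalizer_centralizer (hA hx)

/-- `[A, X] ≤ B ≤ X` forces `A ≤ N(X)`, for `X = B ⊔ Y` with `[A, Y] ≤ B`, `A ≤ N(B)` -/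
theorem le_normalizer_sup_of_commutator_le {A B Y : Subgroup G} (hB : A ≤ normalizer (B : Set G)) (h : ⁅A, Y⁆ ≤ B) :
    A ≤ normalizer ((B ⊔ Y : Subgroup G) : Set G) := by
  intro a ha
  have key : ∀ a ∈ A, MulAut.conj a • (B ⊔ Y) ≤ B ⊔ Y := by
    intro a ha
    rw [cj_sup, mem_normalizer_iff_cj.1 (hB ha)]
    refine sup_le le_sup_left fun x hx => ?_
    rw [mem_cj] at hx
    have h1 : a * (a⁻¹ * x * a) * a⁻¹ * (a⁻¹ * x * a)⁻¹ ∈ B := h (commutator_mem_commutator ha hx)
    have h2 := mul_mem (le_sup_left (a := B) (b := Y) h1) (le_sup_right (a := B) (b := Y) hx)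
    have e : a * (a⁻¹ * x * a) * a⁻¹ * (a⁻¹ * x * a)⁻¹ * (a⁻¹ * x * a) = x := by group
    rwa [e] at h2
  rw [mem_normalizer_iff_cj]
  apply le_antisymm (key a ha)
  have h3 := cj_mono (g := a) (key a⁻¹ (inv_mem ha))
  rwa [cj_cj_inv] at h3

/-- commutator with a join, when the target is normalised by the second factor -/
theorem commutator_sup_le {A B C X : Subgroup G} (hXB : B ≤ normalizer (X : Set G))
    (hXC : C ≤ normalizer (X : Set G)) (h1 : ⁅A, B⁆ ≤ X) (h2 : ⁅A, C⁆ ≤ X) : ⁅A, B ⊔ C⁆ ≤ X := by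
  rw [commutator_le]
  intro a ha b hb
  have hN : ∀ y ∈ B ⊔ C, ∀ x ∈ X, y * x * y⁻¹ ∈ X := fun y hy x hx =>
    (mem_normalizer_iff.1 ((sup_le hXB hXC) hy) x).1 hx
  have hfun : ∀ y (hy : y ∈ closure ((B : Set G) ∪ (C : Set G))), y ∈ B ⊔ C ∧ ⁅a, y⁆ ∈ X := by
    intro y hy
    induction hy using Subgroup.closure_induction with
    | mem x hx =>
      rcases hx with hx | hx
      · exact ⟨(le_sup_left : B ≤ B ⊔ C) hx, h1 (commutator_mem_commutator ha hx)⟩
      · exact ⟨(le_sup_right : C ≤ B ⊔ C) hx, h2 (commutator_mem_commutator ha hx)⟩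
    | one => exact ⟨one_mem _, by simp⟩
    | mul x y _ _ hx hy =>
      refine ⟨mul_mem hx.1 hy.1, ?_⟩
      have e : ⁅a, x * y⁆ = ⁅a, x⁆ * (x * ⁅a, y⁆ * x⁻¹) := by simp only [commutatorElement_def]; group
      rw [e]
      exact mul_mem hx.2 (hN x hx.1 _ hy.2)
    | inv x _ hx =>
      refine ⟨inv_mem hx.1, ?_⟩
      have e : ⁅a, x⁻¹⁆ = x⁻¹ * ⁅a, x⁆⁻¹ * (x⁻¹)⁻¹ := by simp only [commutatorElement_def]; group
      rw [e]
      exact hN _ (inv_mem hx.1) _ (inv_mem hx.2)
  rw [sup_eq_closure] at hb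
  exact (hfun b hb).2

/-- commutator with a join, when the target is normalised by the first factor -/
theorem sup_commutator_le {A B C X : Subgroup G} (hXB : B ≤ normalizer (X : Set G))
    (hXC : C ≤ normalizer (X : Set G)) (h1 : ⁅B, A⁆ ≤ X) (h2 : ⁅C, A⁆ ≤ X) : ⁅B ⊔ C, A⁆ ≤ X := by
  rw [commutator_comm] at h1 h2 ⊢
  exact commutator_sup_le hXB hXC h1 h2

/-- in a finite `p`-group `P`, a subgroup containing its normaliser in `P` is `P` -/
theorem eq_of_normalizer_le {p : ℕ} [Fact p.Prime] {P Y : Subgroup G} [Finite P] (hP : IsPGroup p P) (hY : Y ≤ P)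
    (hN : normalizer (Y : Set G) ⊓ P ≤ Y) : Y = P := by
  by_contra hne
  have hn : Group.IsNilpotent P := hP.isNilpotent
  have hcond := Group.normalizerCondition_of_isNilpotent (G := P)
  have h1 : Y.subgroupOf P < ⊤ := by
    rw [lt_top_iff_ne_top]
    intro e
    exact hne (le_antisymm hY (subgroupOf_eq_top.1 e))
  have h2 := hcond _ h1
  obtain ⟨x, hx1, hx2⟩ := SetLike.exists_of_lt h2
  apply hx2
  rw [mem_subgroupOf]
  apply hN
  refine mem_inf.2 ⟨?_, x.2⟩
  rw [mem_normalizer_iff] at hx1 ⊢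
  intro y
  constructor
  · intro hy
    have := (hx1 ⟨y, hY hy⟩).1 (mem_subgroupOf.2 hy)
    exact mem_subgroupOf.1 this
  · intro hy
    have hyP : y ∈ P := by
      have h3 := P.mul_mem (P.mul_mem (P.inv_mem x.2) (hY hy)) x.2
      have e : (x : G)⁻¹ * ((x : G) * y * (x : G)⁻¹) * (x : G) = y := by group
      rwa [e] at h3
    have := (hx1 ⟨y, hyP⟩).2 (mem_subgroupOf.2 hy)
    exact mem_subgroupOf.1 this

/-- a Sylow `p`-subgroup of `K`, mapped to `G`, that has its normaliser inside `K`, is a Sylow `p`-subgroup of `G` -/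
theorem exists_sylow_of_normalizer_le {p : ℕ} [Fact p.Prime] [Finite G] {K : Subgroup G} (T : Sylow p K)
    (hN : normalizer (((T : Subgroup K).map K.subtype : Subgroup G) : Set G) ≤ K) :
    ∃ P : Sylow p G, (P : Subgroup G) = (T : Subgroup K).map K.subtype := by
  have hT : IsPGroup p ↥((T : Subgroup K).map K.subtype) := T.isPGroup'.map _
  obtain ⟨P, hP⟩ := hT.exists_le_sylow
  refine ⟨P, (eq_of_normalizer_le P.isPGroup' hP ?_).symm⟩
  set N := normalizer (((T : Subgroup K).map K.subtype : Subgroup G) : Set G) ⊓ (P : Subgroup G) with hNd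
  have hNK : N ≤ K := inf_le_left.trans hN
  have h1 : IsPGroup p ↥(N.subgroupOf K) := (P.isPGroup'.to_le inf_le_right).comap_subtype
  have h2 : (T : Subgroup K) ≤ N.subgroupOf K := by
    intro x hx
    rw [mem_subgroupOf]
    exact ⟨le_normalizer (mem_map_of_mem _ hx), hP (mem_map_of_mem _ hx)⟩
  have h3 := T.is_maximal' h1 h2
  have h4 := congrArg (fun X => X.map K.subtype) h3
  simp only [map_subgroupOf_eq_of_le hNK] at h4
  exact le_of_eq h4

end Cfsg.Agent.H990.Norm
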