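import Mathlib
import Cfsg.Prelude.Def_LocalStructure
import Cfsg.Agent.Lib.Cores
import Cfsg.Agent.Lib.LocalCore
import Cfsg.Agent.Transfer.Residual

/-!
# `p`-closed and `p`-irreducible groups: first facts
-/

set_option autoImplicit false
set_option linter.unusedSectionVars false

open Subgroup Cfsg

namespace Cfsg.Agent.H990.PClosed

variable {H : Type*} [Group H]

theorem normal_of_commutator_le {N X : Subgroup H} (hc : ⁅X, (⊤ : Subgroup H)⁆ ≤ N) (hNX : N ≤ X) : X.Normal := by
  refine ⟨fun n hn g => ?_⟩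
  have h1 : n * g * n⁻¹ * g⁻¹ ∈ N := hc (commutator_mem_commutator hn (mem_top g))
  have h2 : g * n * g⁻¹ = (n * g * n⁻¹ * g⁻¹)⁻¹ * n := by group
  rw [h2]
  exact X.mul_mem (X.inv_mem (hNX h1)) hn

theorem pCoreOf_eq_of_normal (p : ℕ) {K : Subgroup H} (hK : K.Normal) : pCoreOf p K = K ⊓ pCore p H :=
  Lib.Cores.map_subtype_pCore p hK

theorem pCoreOf_le (p : ℕ) (K : Subgroup H) : pCoreOf p K ≤ K := Subgroup.map_subtype_le _

section Fin

variable [Finite H] {p : ℕ} [hp : Fact p.Prime]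

/-- `p`-closed: all `p`-subgroups lie in `O_p`. -/
theorem isPClosed_iff : IsPClosed p H ↔ ∀ T : Subgroup H, IsPGroup p T → T ≤ pCore p H := by
  constructor
  · intro h T hT
    obtain ⟨P, hP⟩ := hT.exists_le_sylow
    exact hP.trans (Lib.Cores.le_pCore (h P) P.isPGroup')
  · intro h P
    have h1 : (P : Subgroup H) = pCore p H := le_antisymm (h _ P.isPGroup') (Lib.Cores.pCore_le_sylow P)
    rw [h1]
    exact Lib.Cores.pCore_normal p

theorem isPClosed_iff_sylow (P : Sylow p H) : IsPClosed p H ↔ (P : Subgroup H) ≤ pCore p H := by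
  rw [isPClosed_iff]
  constructor
  · intro h
    exact h _ P.isPGroup'
  · intro h T hT
    obtain ⟨Q, hQ⟩ := hT.exists_le_sylow
    obtain ⟨g, hg⟩ := MulAction.exists_smul_eq H P Q
    intro x hx
    have h1 := hQ hx
    rw [← hg, Sylow.coe_subgroup_smul, Subgroup.mem_pointwise_smul_iff_inv_smul_mem] at h1
    have h2 := h h1
    have h3 := (Lib.Cores.pCore_normal (G := H) p).conj_mem _ h2 g
    have h4 : g * ((MulAut.conj g)⁻¹ • x) * g⁻¹ = x := by
      rw [← map_inv, MulAut.smul_def, MulAut.conj_apply]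
      group
    rwa [h4] at h3

/-- a subgroup is `p`-closed iff all its `p`-subgroups lie in its `O_p` -/
theorem isPClosed_subgroup_iff {K : Subgroup H} :
    IsPClosed p ↥K ↔ ∀ T : Subgroup H, T ≤ K → IsPGroup p T → T ≤ pCoreOf p K := by
  rw [isPClosed_iff]
  constructor
  · intro h T hTK hT
    have h1 := h (T.subgroupOf K) hT.comap_subtype
    have h2 := Subgroup.map_mono (f := K.subtype) h1
    rwa [Subgroup.map_subgroupOf_eq_of_le hTK] at h2
  · intro h T hT
    have h1 := h (T.map K.subtype) (Subgroup.map_subtype_le _) (hT.map _)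
    exact (Subgroup.map_le_map_iff_of_injective K.subtype_injective).1 h1

theorem isPClosed_normal_iff {K : Subgroup H} (hK : K.Normal) :
    IsPClosed p ↥K ↔ ∀ T : Subgroup H, T ≤ K → IsPGroup p T → T ≤ pCore p H := by
  rw [isPClosed_subgroup_iff, pCoreOf_eq_of_normal p hK]
  constructor
  · intro h T h1 h2
    exact (h T h1 h2).trans inf_le_right
  · intro h T h1 h2
    exact le_inf h1 (h T h1 h2)

theorem pCore_le_of_mono {K L : Subgroup H} (hKL : K ≤ L) : K ⊓ pCoreOf p L ≤ pCoreOf p K := by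
  have h1 : IsPGroup p ↥(K ⊓ pCoreOf p L : Subgroup H) :=
    (Lib.LocalCore.isPGroup_map_pCore p L).to_le inf_le_right
  apply Lib.LocalCore.le_map_pCore inf_le_left h1
  intro k hk
  have h2 := Lib.LocalCore.le_normalizer_map_pCore p L (hKL hk)
  rw [mem_normalizer_iff] at h2 ⊢
  intro x
  rw [mem_inf, mem_inf]
  constructor
  · rintro ⟨a, b⟩
    exact ⟨K.mul_mem (K.mul_mem hk a) (K.inv_mem hk), (h2 x).1 b⟩
  · rintro ⟨a, b⟩
    refine ⟨?_, (h2 x).2 b⟩
    have := K.mul_mem (K.mul_mem (K.inv_mem hk) a) hk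
    have e : k⁻¹ * (k * x * k⁻¹) * k = x := by group
    rwa [e] at this

theorem IsPClosed.mono {K L : Subgroup H} (hL : IsPClosed p ↥L) (hKL : K ≤ L) : IsPClosed p ↥K := by
  rw [isPClosed_subgroup_iff] at hL ⊢
  intro T hT hTp
  exact (le_inf hT (hL T (hT.trans hKL) hTp)).trans (pCore_le_of_mono hKL)

/-- strongly `p`-irreducible groups are `p`-irreducible -/
theorem isPIrreducible_of_strongly (h : IsStronglyPIrreducible p H) : IsPIrreducible p H := by
  refine ⟨h.1, fun N hN hcl => h.2 N hN fun hc => hcl ?_⟩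
  rw [isPClosed_normal_iff hN]
  intro T hTN hT
  have hc' : ⁅T ⊔ pCore p H, (⊤ : Subgroup H)⁆ ≤ pCore p H := by
    have hn := Lib.Cores.pCore_normal (G := H) p
    rw [Lib.Cores.sup_commutator_le_iff]
    exact ⟨(Subgroup.commutator_mono hTN le_rfl).trans hc, Subgroup.commutator_le_left _ _⟩
  have hn : (T ⊔ pCore p H).Normal := normal_of_commutator_le hc' le_sup_right
  have hn' := Lib.Cores.pCore_normal (G := H) p
  have hpg : IsPGroup p ↥(T ⊔ pCore p H) := hT.to_sup_of_normal_right (Lib.Cores.pCore_isPGroup p)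
  exact le_sup_left.trans (Lib.Cores.le_pCore hn hpg)

end Fin

end Cfsg.Agent.H990.PClosed
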