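import Mathlib
import Cfsg.Agent.H990.LLem
import Cfsg.Agent.H990.MinOver

/-!
# The `L`-Lemma, lifted: S2834
-/

set_option autoImplicit false
set_option linter.unusedSectionVars false

open Subgroup
open scoped Pointwise

namespace Cfsg.Agent.H990.LLem

open Cfsg.Agent.H990.Norm

variable {X : Type*} [Group X] {p : ℕ} [hp : Fact p.Prime]

theorem map_cj {H : Type*} [Group H] (f : X →* H) (g : X) (A : Subgroup X) :
    (MulAut.conj g • A).map f = MulAut.conj (f g) • A.map f := by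
  ext h
  rw [mem_cj, mem_map, mem_map]
  constructor
  · rintro ⟨x, hx, rfl⟩
    rw [mem_cj] at hx
    exact ⟨_, hx, by simp⟩
  · rintro ⟨x, hx, he⟩
    refine ⟨g * x * g⁻¹, conj_mem_cj hx, ?_⟩
    rw [map_mul, map_mul, he, map_inv]; group

theorem comap_cj {H : Type*} [Group H] (f : X →* H) (g : X) (A : Subgroup H) :
    (MulAut.conj (f g) • A).comap f = MulAut.conj g • A.comap f := by
  ext x
  rw [mem_cj, mem_comap, mem_comap, mem_cj, map_mul, map_mul, map_inv]

theorem exists_lifted [Finite X] (S : Sylow p X) (N : Subgroup X) (hS : (S : Subgroup X) ≤ N) (hN : N ≠ ⊤)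
    (uniq : ∀ K : Subgroup X, (S : Subgroup X) ≤ K → K ≠ ⊤ → K ≤ N) {A : Subgroup X} (hA : IsPGroup p A)
    (hQ : ¬ A ≤ Cfsg.pCore p X) : ∃ (y : X) (L L₀ : Subgroup X), L₀ = L ⊓ MulAut.conj y • N ∧ A ≤ L₀ ∧
      Cfsg.pCore p X ≤ L₀ ∧ L₀ ≠ L ∧
      (∀ K : Subgroup X, A ≤ K → Cfsg.pCore p X ≤ K → K ≤ L → K ≠ L → K ≤ L₀) ∧
      (∀ l ∈ L, A ≤ MulAut.conj l • L₀ → l ∈ L₀) := by
  have hn : (Cfsg.pCore p X).Normal := Lib.Cores.pCore_normal p
  set Q := Cfsg.pCore p X with hQd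
  set f := QuotientGroup.mk' Q with hfd
  have hfs : Function.Surjective f := QuotientGroup.mk'_surjective Q
  have hker : f.ker = Q := QuotientGroup.ker_mk' Q
  have hQS : Q ≤ (S : Subgroup X) := Lib.Cores.pCore_le_sylow S
  have hQN : ∀ y : X, Q ≤ MulAut.conj y • N := by
    intro y q hq
    rw [mem_cj]
    apply hS
    apply hQS
    have := hn.conj_mem q hq y⁻¹
    rwa [inv_inv] at this
  have hex : ∀ P : Sylow p (X ⧸ Q), ∃ z : X, (MulAut.conj z • (S : Subgroup X)).map f = P := by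
    intro P
    let P0 : Sylow p (X ⧸ Q) := S.mapSurjective hfs
    obtain ⟨g, hg⟩ := MulAction.exists_smul_eq (X ⧸ Q) P0 P
    obtain ⟨z, rfl⟩ := hfs g
    refine ⟨z, ?_⟩
    rw [map_cj, ← hg, coe_smul_sylow]
    rfl
  choose z hz using hex
  let M : Sylow p (X ⧸ Q) → Subgroup (X ⧸ Q) := fun P => (MulAut.conj (z P) • N).map f
  have hcomap' : ∀ K : Subgroup X, Q ≤ K → (K.map f).comap f = K := by
    intro K hK
    rw [comap_map_eq, hker]
    exact sup_eq_left.2 hK
  have hcomap : ∀ y : X, ((MulAut.conj y • N).map f).comap f = MulAut.conj y • N := fun y => hcomap' _ (hQN y)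
  have hM : UM M := by
    refine ⟨fun P => ?_, fun P => ?_, fun P K hK hne => ?_⟩
    · conv_lhs => rw [← hz P]
      exact map_mono (cj_mono hS)
    · intro h
      have h1 := hcomap (z P)
      have h2 : (MulAut.conj (z P) • N).map f = ⊤ := h
      rw [h2, comap_top] at h1
      apply hN
      apply cj_inj (g := z P)
      rw [← h1, cj_top]
    · have h1 : MulAut.conj (z P) • (S : Subgroup X) ≤ K.comap f := by
        rw [← map_le_iff_le_comap, hz P]; exact hK
      have h2 : MulAut.conj (z P)⁻¹ • K.comap f ≠ ⊤ := by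
        intro h3
        apply hne
        have h4 : K.comap f = ⊤ := by
          apply cj_inj (g := (z P)⁻¹)
          rw [h3, cj_top]
        rw [← map_comap_eq_self_of_surjective hfs K, h4]
        exact map_top_of_surjective f hfs
      have h3 := uniq _ (by
        have := cj_mono (g := (z P)⁻¹) h1
        rwa [cj_cj, inv_mul_cancel, cj_one] at this) h2
      have h4 := cj_mono (g := z P) h3
      rw [cj_cj, mul_inv_cancel, cj_one] at h4
      rw [← map_comap_eq_self_of_surjective hfs K]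
      exact map_mono h4
  have hO : Cfsg.pCore p (X ⧸ Q) = ⊥ := Lib.Cores.pCore_quotient_pCore p
  have hA' : IsPGroup p (A.map f) := hA.map f
  have hA1 : A.map f ≠ ⊥ := by
    intro h
    rw [Subgroup.map_eq_bot_iff, hker] at h
    exact hQ h
  obtain ⟨J, hJ⟩ := exists_J hM hO hA' hA1
  obtain ⟨a, b, P, P', ha, hb, hP, hP', hne⟩ := hJ.exists_members hM hO hA' hA1
  obtain ⟨a, b, P, P', ha, hb, hP, hP', hne, -, hL⟩ := hJ.exists_L hM hO hA' hA1 (K := ⊤) ha hb hP hP' hne le_top le_top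
  set L := MulAut.conj a • A.map f ⊔ MulAut.conj b • A.map f with hLd
  obtain ⟨g, rfl⟩ := hfs a
  have e1 : ∀ K : Subgroup (X ⧸ Q), (MulAut.conj (f g)⁻¹ • K).comap f = MulAut.conj g⁻¹ • K.comap f := by
    intro K
    rw [← map_inv]
    exact comap_cj f g⁻¹ K
  have e2 : ∀ K : Subgroup (X ⧸ Q), Q ≤ MulAut.conj g⁻¹ • K.comap f := by
    intro K
    rw [← e1]
    intro q hq
    rw [mem_comap]
    have : f q = 1 := by rwa [← MonoidHom.mem_ker, hker]
    rw [this]
    exact one_mem _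
  refine ⟨g⁻¹ * z P, MulAut.conj g⁻¹ • L.comap f, MulAut.conj g⁻¹ • (L ⊓ M P).comap f, ?_, ?_, e2 _, ?_, ?_, ?_⟩
  · rw [comap_inf, cj_inf, ← cj_cj]
    congr 2
    exact hcomap _
  · rw [← cj_le_iff]
    intro x hx
    rw [mem_comap]
    apply hL.A_le
    have h1 := mem_map_of_mem f hx
    rwa [map_cj] at h1
  · intro h
    have h1 := cj_inj h
    exact hL.ne (comap_injective hfs h1)
  · intro K hAK hQK hKL hKne
    have h1 : (K.map f).comap f = K := hcomap' K hQK
    have h2 := hL.uniq (MulAut.conj (f g) • K.map f) (cj_mono (map_mono hAK)) (by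
      rw [← map_cj, map_le_iff_le_comap]
      have := cj_mono (g := g) hKL
      rwa [cj_cj_inv] at this) (by
      intro h
      apply hKne
      apply cj_inj (g := g)
      rw [cj_cj_inv, ← h, comap_cj, h1])
    rw [← map_cj, map_le_iff_le_comap, cj_le_iff] at h2
    exact h2
  · intro l hl hle
    rw [mem_cj, inv_inv, mem_comap] at hl ⊢
    apply hL.ti _ hl
    have h1 := map_mono (f := f) hle
    rw [map_cj, map_cj, map_comap_eq_self_of_surjective hfs] at h1
    have h2 := cj_mono (g := f g) h1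
    rw [cj_cj, cj_cj, map_inv] at h2
    have e : f (g * l * g⁻¹) = f g * f l * (f g)⁻¹ := by rw [map_mul, map_mul, map_inv]
    rw [e]
    exact h2

/-- **the `L`-Lemma** -/
theorem llemma [Finite X] (T : Sylow p X) (hmin : Cfsg.IsMinimalOver (T : Subgroup X)) (M : Subgroup X)
    (hM : IsCoatom M ∧ (T : Subgroup X) ≤ M) (A : Subgroup X) (hAT : A ≤ (T : Subgroup X)) (hA : ¬ A ≤ Cfsg.pCore p X) :
    ∃ L : Subgroup X, A ⊔ Cfsg.pCore p X ≤ L ∧ ∃ L₀ : Subgroup X, A ⊔ (Cfsg.pCoreOf p L) ≤ L₀ ∧ L₀ < L ∧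
      (∀ Y : Subgroup X, A ⊔ (Cfsg.pCoreOf p L) ≤ Y → Y < L → Y ≤ L₀) ∧
      (∃ g : X, L₀ = L ⊓ (M.map (MulAut.conj (g : X)).toMonoidHom)) ∧
      ∀ x ∈ L, x ∉ L₀ → (A ⊔ (A.map (MulAut.conj (x : X)).toMonoidHom)) ⊔ (Cfsg.pCoreOf p L) = L := by
  have hd := MinOver.data_of_coatom hmin hM.1 hM.2
  have hAp : IsPGroup p A := T.isPGroup'.to_le hAT
  obtain ⟨y, L, L₀, hL₀, hAL, hQL, hne, hmax, hti⟩ := exists_lifted T M hM.2 hd.ne hd.max hAp hA
  have hle : L₀ ≤ L := by rw [hL₀]; exact inf_le_left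
  have hQ : Cfsg.pCore p X ≤ Cfsg.pCoreOf p L := by
    apply Lib.LocalCore.le_map_pCore (hQL.trans hle) (Lib.Cores.pCore_isPGroup p)
    exact le_normalizer_of_normal (Lib.Cores.pCore_normal p) _
  have hOL : Cfsg.pCoreOf p L ≤ L := PClosed.pCoreOf_le p L
  have hnorm : L ≤ normalizer (Cfsg.pCoreOf p L : Set X) := Lib.LocalCore.le_normalizer_map_pCore p L
  have hOp : IsPGroup p ↥(Cfsg.pCoreOf p L) := Lib.LocalCore.isPGroup_map_pCore p L
  have hAO : IsPGroup p ↥(A ⊔ Cfsg.pCoreOf p L) :=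
    hAp.to_sup_of_normal_right' hOp ((hAL.trans hle).trans hnorm)
  have hself : normalizer (L₀ : Set X) ⊓ L ≤ L₀ := by
    rintro l ⟨h1, h2⟩
    apply hti l h2
    rw [mem_normalizer_iff_cj.1 h1]
    exact hAL
  have hAOL : A ⊔ Cfsg.pCoreOf p L ≤ L := sup_le (hAL.trans hle) hOL
  have hAOne : A ⊔ Cfsg.pCoreOf p L ≠ L := by
    intro e
    apply hne
    rw [e] at hAO
    exact eq_of_normalizer_le hAO hle hself
  have hAO0 : A ⊔ Cfsg.pCoreOf p L ≤ L₀ := hmax _ le_sup_left (hQ.trans le_sup_right) hAOL hAOne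
  refine ⟨L, sup_le (hAL.trans hle) (hQL.trans hle), L₀, hAO0, lt_of_le_of_ne hle hne, fun Y hY hYL => ?_,
    ⟨y, hL₀⟩, fun x hx hx0 => ?_⟩
  · exact hmax Y (le_sup_left.trans hY) ((hQ.trans le_sup_right).trans hY) hYL.le hYL.ne
  · by_contra hcon
    apply hx0
    have hxL : MulAut.conj x • A ≤ L := by
      have := cj_mono (g := x) (hAL.trans hle)
      rwa [cj_of_mem hx] at this
    have h1 : (A ⊔ (MulAut.conj x • A)) ⊔ (Cfsg.pCoreOf p L) ≤ L :=
      sup_le (sup_le (hAL.trans hle) hxL) hOL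
    have h2 := hmax _ (le_sup_left.trans le_sup_left) (hQ.trans le_sup_right) h1 hcon
    have h3 : MulAut.conj x • A ≤ L₀ := (le_sup_right.trans le_sup_left).trans h2
    have h4 := hti x⁻¹ (inv_mem hx) (by rwa [← cj_le_iff])
    exact inv_mem_iff.1 h4

end Cfsg.Agent.H990.LLem
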