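import Mathlib
import Cfsg.Agent.H990.Norm

/-!
# quadratic pairs: `L = ⟨X, X^g⟩`, `[V, X, X] = 1`
-/

set_option autoImplicit false

open Subgroup
open scoped Pointwise commutatorElement

namespace Cfsg.Agent.H990.QuadPair

open Cfsg.Agent.H990.Norm

variable {G : Type*} [Group G]

theorem commutator_eq (V L X : Subgroup G) (hLV : L ≤ normalizer (V : Set G)) (hX : X ≤ L) (Y : Subgroup G) (hY : Y ≤ L)
    (hgen : X ⊔ Y = L) : ⁅V, X⁆ ⊔ ⁅V, Y⁆ = ⁅V, L⁆ := by
  apply le_antisymm
  · exact sup_le (commutator_mono le_rfl hX) (commutator_mono le_rfl hY)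
  · have hV : ∀ Z : Subgroup G, V ≤ normalizer ((⁅V, Z⁆ : Subgroup G) : Set G) := fun Z =>
      normalizer_commutator_ge_left _ _
    have hZ : ∀ Z : Subgroup G, Z ≤ normalizer ((⁅V, Z⁆ : Subgroup G) : Set G) := fun Z =>
      normalizer_commutator_ge_right _ _
    have key : ∀ Z Z' : Subgroup G, Z ≤ L → Z' ≤ L → Z ≤ normalizer ((⁅V, Z⁆ ⊔ ⁅V, Z'⁆ : Subgroup G) : Set G) := by
      intro Z Z' hZL hZL'
      have h1 : ⁅V, Z'⁆ ≤ V := le_normalizer_iff_commutator_le_left.1 (hZL'.trans hLV)
      apply le_normalizer_sup_of_commutator_le (hZ Z)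
      rw [commutator_comm]
      exact commutator_mono h1 le_rfl
    rw [← hgen]
    refine commutator_sup_le (key X Y hX hY) ?_ le_sup_left le_sup_right
    rw [sup_comm]
    exact key Y X hY hX

theorem inf_centralizer (V L X : Subgroup G) (hLV : L ≤ normalizer (V : Set G)) (hX : X ≤ L) (g : G) (hg : g ∈ L)
    (hq : ⁅⁅V, X⁆, X⁆ = ⊥) (hgen : X ⊔ MulAut.conj g • X = L) :
    ⁅V, L⁆ ⊓ centralizer (X : Set G) = ⁅V, X⁆ := by
  have hgV : MulAut.conj g • V = V := mem_normalizer_iff_cj.1 (hLV hg)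
  have hgL : MulAut.conj g • L = L := cj_of_mem hg
  have hYL : MulAut.conj g • X ≤ L := by
    rw [← hgL]; exact cj_mono hX
  have h1 := commutator_eq V L X hLV hX _ hYL hgen
  have hq' : ⁅⁅V, MulAut.conj g • X⁆, MulAut.conj g • X⁆ = ⊥ := by
    have := congrArg (fun A => MulAut.conj g • A) hq
    simp only [cj_commutator, cj_bot, hgV] at this
    exact this
  have hcY : MulAut.conj g • ⁅V, X⁆ = ⁅V, MulAut.conj g • X⁆ := by rw [cj_commutator, hgV]
  apply le_antisymm
  · rintro w ⟨hw, hwc⟩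
    rw [← h1] at hw
    have hVn : ⁅V, X⁆ ≤ normalizer ((⁅V, MulAut.conj g • X⁆ : Subgroup G) : Set G) :=
      (le_normalizer_iff_commutator_le_left.1 (hX.trans hLV)).trans (normalizer_commutator_ge_left _ _)
    have hw' : w ∈ (⁅V, X⁆ ⊔ ⁅V, MulAut.conj g • X⁆ : Subgroup G) := hw
    rw [← SetLike.mem_coe, coe_mul_of_left_le_normalizer_right _ _ hVn] at hw'
    obtain ⟨a, ha, b, hb, rfl⟩ := hw'
    have hac : a ∈ centralizer (X : Set G) := (commutator_eq_bot_iff_le_centralizer.1 hq) ha
    have hbX : b ∈ centralizer (X : Set G) := by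
      have := mul_mem (inv_mem hac) hwc
      simpa using this
    have hbY : b ∈ centralizer ((MulAut.conj g • X : Subgroup G) : Set G) :=
      (commutator_eq_bot_iff_le_centralizer.1 hq') hb
    have hbL : b ∈ centralizer (L : Set G) := by
      have hXc : X ≤ centralizer (zpowers b : Set G) := by
        rw [le_centralizer_iff, zpowers_le]; exact hbX
      have hYc : (MulAut.conj g • X : Subgroup G) ≤ centralizer (zpowers b : Set G) := by
        rw [le_centralizer_iff, zpowers_le]; exact hbY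
      have h2 : L ≤ centralizer (zpowers b : Set G) := by rw [← hgen]; exact sup_le hXc hYc
      rw [le_centralizer_iff, zpowers_le] at h2
      exact h2
    have hb2 : b ∈ ⁅V, X⁆ := by
      rw [SetLike.mem_coe, ← hcY, mem_cj] at hb
      have h3 : g⁻¹ * b * g = b := by
        have h4 := (mem_centralizer_iff.1 hbL) g hg
        rw [mul_assoc, ← h4]; group
      rwa [h3] at hb
    exact mul_mem ha hb2
  · exact le_inf (commutator_mono le_rfl hX) (commutator_eq_bot_iff_le_centralizer.1 hq)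

theorem inf_centralizer' (V L X : Subgroup G) (hLV : L ≤ normalizer (V : Set G)) (hX : X ≤ L) (g : G) (hg : g ∈ L)
    (hq : ⁅⁅V, X⁆, X⁆ = ⊥) (hgen : X ⊔ MulAut.conj g • X = L) :
    ⁅V, L⁆ ⊓ centralizer (L : Set G) = ⁅V, X⁆ ⊓ ⁅V, MulAut.conj g • X⁆ := by
  have hgV : MulAut.conj g • V = V := mem_normalizer_iff_cj.1 (hLV hg)
  have hgL : MulAut.conj g • L = L := cj_of_mem hg
  have h1 := inf_centralizer V L X hLV hX g hg hq hgen
  have h2 : ⁅V, L⁆ ⊓ centralizer ((MulAut.conj g • X : Subgroup G) : Set G) = ⁅V, MulAut.conj g • X⁆ := by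
    have := congrArg (fun A => MulAut.conj g • A) h1
    simp only [cj_commutator, cj_inf, hgV, hgL, cj_centralizer] at this
    exact this
  rw [← h1, ← h2]
  have h3 : centralizer (L : Set G) = centralizer (X : Set G) ⊓ centralizer ((MulAut.conj g • X : Subgroup G) : Set G) := by
    apply le_antisymm
    · refine le_inf (centralizer_le hX) (centralizer_le ?_)
      have : MulAut.conj g • X ≤ L := by rw [← hgL]; exact cj_mono hX
      exact this
    · rw [le_centralizer_iff, ← hgen]
      refine sup_le ?_ ?_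
      · rw [le_centralizer_iff]; exact inf_le_left
      · rw [le_centralizer_iff]; exact inf_le_right
  rw [h3]
  ext x
  simp only [mem_inf]
  tauto

end Cfsg.Agent.H990.QuadPair
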